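import Cfsg.Agent.Lib.InvChar.HeRec.Swap.Basic
import Mathlib.Algebra.Group.Conj

/-!
# Commuting conjugates of `t`: the two unfused classes and the first swap involution
-/

set_option autoImplicit false
set_option maxRecDepth 100000

namespace CfsgLib.InvChar.HeRec.Swap

variable {G : Type*} [Group G] {t : G} {ψ : ℕ → G}

theorem comm_of_eq_conj {g a b : G} (h : a * b = b * a) :
    (g * a * g⁻¹) * (g * b * g⁻¹) = (g * b * g⁻¹) * (g * a * g⁻¹) := by
  calc (g * a * g⁻¹) * (g * b * g⁻¹) = g * (a * b) * g⁻¹ := by group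
    _ = g * (b * a) * g⁻¹ := by rw [h]
    _ = _ := by group

theorem rep_valid {r : ℕ} (hr : r ∈ iReps) : hvalid r = true := by
  have h := constants_valid
  simp only [List.all_append, Bool.and_eq_true] at h
  exact List.all_eq_true.1 h.2 r hr

theorem getD_mem_iReps {i : ℕ} (hi : i < 7) : iReps.getD i 0 ∈ iReps := by
  have h : i < iReps.length := hi
  rw [List.getD_eq_getElem _ _ h]
  exact List.getElem_mem h

/-- A commuting conjugate `ψ u` of `t` comes from a representative pair. -/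
theorem pair_rep (ht : orderOf t = 2) (hψ : IsFrame t ψ) {u : ℕ} (hu : hvalid u = true)
    (hne : u ≠ hZ) (h : IsConj t (ψ u)) :
    ∃ g : G, ∃ r ∈ iReps, g * t * g⁻¹ = ψ u ∧ g⁻¹ * t * g = ψ r := by
  obtain ⟨g, hg⟩ := isConj_iff.1 h
  have hut := ψ_comm_t hψ hu
  have hconj := comm_of_eq_conj (g := g⁻¹) hut
  rw [show g⁻¹ * ψ u * g⁻¹⁻¹ = t by rw [← hg]; group, inv_inv] at hconj
  obtain ⟨w, hw, hwe⟩ := code_of_comm hψ hconj.symm
  have htt : t * t = 1 := by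
    have := pow_orderOf_eq_one t
    rwa [ht, pow_two] at this
  have ht1 : t ≠ 1 := fun e => by rw [e, orderOf_one] at ht; omega
  have hsq : hmul w w = hOne := by
    refine ψ_eq_mul hψ hw hw valid_one ?_
    rw [hwe, ψ_one hψ]
    calc g⁻¹ * t * g * (g⁻¹ * t * g) = g⁻¹ * (t * t) * g := by group
      _ = 1 := by rw [htt]; group
  have h1 : w ≠ hOne := by
    intro e
    rw [e, ψ_one hψ] at hwe
    exact ht1 (by
      calc t = g * (g⁻¹ * t * g) * g⁻¹ := by group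
        _ = 1 := by rw [← hwe]; group)
  have hz : w ≠ hZ := by
    intro e
    rw [e, hψ.map_z] at hwe
    refine hne (hψ.inj _ _ hu valid_z ?_)
    rw [hψ.map_z, ← hg]
    calc g * t * g⁻¹ = g * (g⁻¹ * t * g) * g⁻¹ := by rw [← hwe]
      _ = t := by group
  have hmem : w ∈ iTable.map (fun e => e.1) := invols_eq ▸ mem_invols hw hsq h1 hz
  obtain ⟨e, he, rfl⟩ := List.mem_map.1 hmem
  have hok := List.all_eq_true.1 iTable_ok e he
  simp only [Bool.and_eq_true, decide_eq_true_eq, beq_iff_eq] at hok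
  obtain ⟨⟨hc, hi⟩, hcr⟩ := hok
  have hr := getD_mem_iReps hi
  have hce := (mul_eq_iff hψ hw hc hc (rep_valid hr)).2 hcr
  refine ⟨g * ψ e.2.2, _, hr, ?_, ?_⟩
  · rw [mul_inv_rev]
    calc g * ψ e.2.2 * t * ((ψ e.2.2)⁻¹ * g⁻¹) = g * (ψ e.2.2 * t) * (ψ e.2.2)⁻¹ * g⁻¹ := by group
      _ = g * t * g⁻¹ := by rw [ψ_comm_t hψ hc]; group
      _ = ψ u := hg
  · rw [mul_inv_rev]
    calc (ψ e.2.2)⁻¹ * g⁻¹ * t * (g * ψ e.2.2) = (ψ e.2.2)⁻¹ * (g⁻¹ * t * g * ψ e.2.2) := by group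
      _ = (ψ e.2.2)⁻¹ * (ψ e.1 * ψ e.2.2) := by rw [hwe]
      _ = _ := by rw [hce]; group

/-- A root of `hZ` at the representative goes to a root of `u` in the frame. -/
theorem root_forward (hψ : IsFrame t ψ) {u r x : ℕ} (hu : hvalid u = true) (hr : r ∈ iReps) {g : G}
    (hg : g * t * g⁻¹ = ψ u) (hgr : g⁻¹ * t * g = ψ r) (hx : x ∈ zRootsAt r) :
    ∃ a, hvalid a = true ∧ hmul a a = u ∧ ψ a = g * ψ x * g⁻¹ := by
  obtain ⟨hxv, hxx, hxr⟩ := mem_zRootsAt.1 hx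
  have h := comm_of_eq_conj (g := g) ((mul_eq_iff hψ hxv (rep_valid hr) (rep_valid hr) hxv).2 hxr)
  rw [show g * ψ r * g⁻¹ = t by rw [← hgr]; group] at h
  obtain ⟨a, ha, hae⟩ := code_of_comm hψ h
  refine ⟨a, ha, ψ_eq_mul hψ ha ha hu ?_, hae⟩
  rw [hae, ← hg]
  calc g * ψ x * g⁻¹ * (g * ψ x * g⁻¹) = g * (ψ x * ψ x) * g⁻¹ := by group
    _ = g * t * g⁻¹ := by rw [ψ_mul_eq hψ hxv hxv hxx, hψ.map_z]

theorem not_conj_sixth (ht : orderOf t = 2) (hψ : IsFrame t ψ) : ¬ IsConj t (ψ 5401) := by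
  intro h
  obtain ⟨g, r, hr, hg, hgr⟩ := pair_rep ht hψ (by decide) (by decide) h
  have h1 := List.all_eq_true.1 rep_roots r hr
  simp only [Bool.not_eq_true', List.isEmpty_eq_false_iff] at h1
  obtain ⟨x, hx⟩ := List.exists_mem_of_ne_nil _ h1
  obtain ⟨a, ha, haa, -⟩ := root_forward hψ (by decide) hr hg hgr hx
  have h2 := no_root
  rw [Bool.and_eq_true, List.all_eq_true] at h2
  have h3 : a ∈ hScan fun A => amul A A == 281 := by
    refine mem_hScan ha ?_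
    rw [beq_iff_eq, ← hmul_mod, haa]
  simpa [haa] using h2.1 a h3

theorem not_conj_fifth (ht : orderOf t = 2) (hψ : IsFrame t ψ) : ¬ IsConj t (ψ 5393) := by
  intro h
  have hu : hvalid 5393 = true := by decide
  obtain ⟨g, r, hr, hg, hgr⟩ := pair_rep ht hψ hu (by decide) h
  have hrc := roots_comm
  simp only [Bool.and_eq_true, List.any_eq_true, List.all_eq_true, bne_iff_ne] at hrc
  obtain ⟨⟨a, ha, b, hb, hab⟩, hall⟩ := hrc
  have hp := List.all_eq_true.1 rep_pairs r hr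
  simp only [Bool.or_eq_true, List.any_eq_true, List.all_eq_true, beq_iff_eq] at hp
  rcases hp with ⟨x, hx, y, hy, hxy⟩ | hcomm
  · obtain ⟨p, hp, hpp, hpe⟩ := root_forward hψ hu hr hg hgr hx
    obtain ⟨q, hq, hqq, hqe⟩ := root_forward hψ hu hr hg hgr hy
    refine hall p (mem_rRoots.2 ⟨hp, hpp⟩) q (mem_rRoots.2 ⟨hq, hqq⟩) ?_
    refine (mul_eq_iff hψ hp hq hu (hvalid_hmul hq hp)).1 ?_
    obtain ⟨hxv, -, -⟩ := mem_zRootsAt.1 hx
    obtain ⟨hyv, -, -⟩ := mem_zRootsAt.1 hy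
    rw [hψ.map_mul q p hq hp, hpe, hqe, ← hg]
    calc g * ψ x * g⁻¹ * (g * ψ y * g⁻¹) = g * (ψ x * ψ y) * g⁻¹ := by group
      _ = g * (ψ hZ * ψ (hmul y x)) * g⁻¹ := by
        rw [(mul_eq_iff hψ hxv hyv valid_z (hvalid_hmul hyv hxv)).2 hxy]
      _ = _ := by rw [hψ.map_z, hψ.map_mul y x hyv hxv]; group
  · have back : ∀ p ∈ rRoots, ∃ x ∈ zRootsAt r, ψ x = g⁻¹ * ψ p * g := by
      intro p hp
      obtain ⟨hpv, hpp⟩ := mem_rRoots.1 hp
      have e2 := ψ_mul_eq hψ hpv hpv hpp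
      have h1 : ψ p * ψ 5393 = ψ 5393 * ψ p := by rw [← e2, mul_assoc]
      have h2 := comm_of_eq_conj (g := g⁻¹) h1
      rw [show g⁻¹ * ψ 5393 * g⁻¹⁻¹ = t by rw [← hg]; group, inv_inv] at h2
      obtain ⟨x, hx, hxe⟩ := code_of_comm hψ h2
      have h3 := comm_of_eq_conj (g := g⁻¹) (ψ_comm_t hψ hpv)
      rw [inv_inv, hgr] at h3
      refine ⟨x, mem_zRootsAt.2 ⟨hx, ψ_eq_mul hψ hx hx valid_z ?_, ?_⟩, hxe⟩
      · rw [hψ.map_z, hxe]
        calc g⁻¹ * ψ p * g * (g⁻¹ * ψ p * g) = g⁻¹ * (ψ p * ψ p) * g := by group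
          _ = t := by rw [e2, ← hg]; group
      · exact (mul_eq_iff hψ hx (rep_valid hr) (rep_valid hr) hx).1 (by rw [hxe]; exact h3)
    obtain ⟨x, hx, hxe⟩ := back a ha
    obtain ⟨y, hy, hye⟩ := back b hb
    obtain ⟨hav, -⟩ := mem_rRoots.1 ha
    obtain ⟨hbv, -⟩ := mem_rRoots.1 hb
    refine hab ((mul_eq_iff hψ hav hbv hbv hav).1 ?_)
    have hxy := (mul_eq_iff hψ (mem_zRootsAt.1 hx).1 (mem_zRootsAt.1 hy).1
      (mem_zRootsAt.1 hy).1 (mem_zRootsAt.1 hx).1).2 (hcomm x hx y hy)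
    have h4 := comm_of_eq_conj (g := g) hxy
    rw [hxe, hye, show g * (g⁻¹ * ψ a * g) * g⁻¹ = ψ a by group,
      show g * (g⁻¹ * ψ b * g) * g⁻¹ = ψ b by group] at h4
    exact h4

/-- An element of `C(ψ hY)` moving `t` to `ψ hZY`. -/
theorem exists_move (ht : orderOf t = 2) (hψ : IsFrame t ψ) (hy : IsConj t (ψ hY)) :
    ∃ d : G, d * ψ hY = ψ hY * d ∧ d * t = ψ hZY * d := by
  obtain ⟨g, r, hr, hg, hgr⟩ := pair_rep ht hψ valid_y (by decide) hy
  have hm := List.all_eq_true.1 rep_move r hr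
  simp only [Bool.or_eq_true, decide_eq_true_eq, List.any_eq_true, Bool.and_eq_true, beq_iff_eq] at hm
  rcases hm with hnine | ⟨c, -, hc, hcr⟩
  · exfalso
    choose f hf using fun x (hx : x ∈ zRootsAt r) => root_forward hψ valid_y hr hg hgr hx
    let L := dList.filter fun x => hmul x x == hY
    have hmem : ∀ x (hx : x ∈ zRootsAt r), f x hx ∈ L := by
      intro x hx
      obtain ⟨hv, hsq, -⟩ := hf x hx
      refine List.mem_filter.2 ⟨mem_dList.2 ⟨hv, ?_⟩, by simp [hsq]⟩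
      refine (mul_eq_iff hψ hv valid_y valid_y hv).1 ?_
      rw [← ψ_mul_eq hψ hv hv hsq, mul_assoc]
    have hinj : ∀ x (hx : x ∈ zRootsAt r) y (hy : y ∈ zRootsAt r), f x hx = f y hy → x = y := by
      intro x hx y hy e
      refine hψ.inj x y (mem_zRootsAt.1 hx).1 (mem_zRootsAt.1 hy).1 ?_
      have h1 := (hf x hx).2.2
      rw [e, (hf y hy).2.2] at h1
      exact (mul_left_cancel (mul_right_cancel h1)).symm
    have hnd := List.all_eq_true.1 zRoots_nodup r hr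
    rw [decide_eq_true_eq] at hnd
    have hcard := Finset.card_le_card_of_injOn
      (s := (zRootsAt r).toFinset.attach) (t := L.toFinset) (fun x => f x.1 (List.mem_toFinset.1 x.2))
      (fun x _ => by simpa using hmem x.1 (List.mem_toFinset.1 x.2))
      (fun x _ y _ e => Subtype.ext (hinj _ _ _ _ e))
    rw [Finset.card_attach, List.toFinset_card_of_nodup hnd] at hcard
    have h8 := of_decide_eq_true yRoots_small
    have : L.toFinset.card ≤ (dList.filter fun x => hmul x x == hY).length := List.toFinset_card_le _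
    omega
  · have hrv := rep_valid hr
    have hce := (mul_eq_iff hψ hc hrv (hvalid_hmul valid_z hrv) hc).2 hcr
    rw [hψ.map_mul hZ r valid_z hrv, hψ.map_z] at hce
    have e1 : t * g⁻¹ = g⁻¹ * ψ hY := by rw [← hg]; group
    refine ⟨g * ψ c * g⁻¹, ?_, ?_⟩
    · rw [← hg]
      exact comm_of_eq_conj (ψ_comm_t hψ hc)
    · have hzy : ψ hZY = t * ψ hY := by
        rw [← hψ.map_z, ψ_mul_eq hψ valid_z valid_y constants_mul.2.2.2.2]
      rw [hzy]
      calc g * ψ c * g⁻¹ * t = g * (ψ c * ψ r) * g⁻¹ := by rw [← hgr]; group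
        _ = g * (t * ψ r * ψ c) * g⁻¹ := by rw [hce]
        _ = (g * t * g⁻¹) * t * (g * ψ c * g⁻¹) := by rw [← hgr]; group
        _ = _ := by
          rw [hg, show ψ hY * t = t * ψ hY from ψ_comm_t hψ valid_y]

/-- An involution interchanging `t` and `ψ hY`. -/
theorem exists_swap_invol (ht : orderOf t = 2) (hψ : IsFrame t ψ) (hy : IsConj t (ψ hY)) :
    ∃ n : G, n * n = 1 ∧ n * t = ψ hY * n := by
  obtain ⟨d, hdy, hdt⟩ := exists_move ht hψ hy
  have hss : ψ hS * ψ hS = 1 := by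
    rw [ψ_mul_eq hψ valid_s valid_s constants_mul.2.1, ψ_one hψ]
  have hsy := (mul_eq_iff hψ valid_s valid_y valid_zy valid_s).2 constants_mul.2.2.2.1
  have hszy : ψ hS * ψ hZY = ψ hY * ψ hS := by
    calc ψ hS * ψ hZY = ψ hS * (ψ hZY * ψ hS) * ψ hS := by rw [mul_assoc, mul_assoc, hss, mul_one]
      _ = ψ hS * (ψ hS * ψ hY) * ψ hS := by rw [hsy]
      _ = _ := by rw [← mul_assoc, hss, one_mul]
  refine ⟨d⁻¹ * ψ hS * d, ?_, ?_⟩
  · calc d⁻¹ * ψ hS * d * (d⁻¹ * ψ hS * d) = d⁻¹ * (ψ hS * ψ hS) * d := by group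
      _ = 1 := by rw [hss]; group
  · calc d⁻¹ * ψ hS * d * t = d⁻¹ * (ψ hS * ψ hZY) * d := by rw [mul_assoc, hdt]; group
      _ = d⁻¹ * (ψ hY * ψ hS) * d := by rw [hszy]
      _ = d⁻¹ * ψ hY * d * (d⁻¹ * ψ hS * d) := by group
      _ = ψ hY * (d⁻¹ * ψ hS * d) := by
        rw [mul_assoc d⁻¹ (ψ hY) d, ← hdy, inv_mul_cancel_left]

end CfsgLib.InvChar.HeRec.Swap
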