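import Cfsg.Agent.Lib.InvChar.HeRec.Swap.Search
import Cfsg.Agent.Lib.InvChar.HeRec.Swap.Edge

/-!
# The action of a swap involution on the common centraliser
-/

set_option autoImplicit false
set_option maxRecDepth 100000

namespace CfsgLib.InvChar.HeRec.Swap

variable {G : Type*} [Group G] {t : G} {ψ : ℕ → G}

theorem levels_ok : ((level1 ++ level2 ++ level3 ++ level4).all fun e =>
    ev cGens e.2 == e.1 && (dTable.map fun d => d.1).elem e.1) = true := by
  decide +kernel

theorem cGens_mem {x : ℕ} (hx : x ∈ cGens) : x ∈ dList ∧ hmul x x = hOne ∧ x ≠ hOne := by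
  have h := cTable_ok
  simp only [Bool.and_eq_true, List.all_eq_true, beq_iff_eq, List.elem_eq_mem, decide_eq_true_eq,
    bne_iff_ne] at h
  exact ⟨h.1.2 x hx, h.2 x hx⟩

theorem ev_cWord {x : ℕ} (hx : x ∈ dList) : ev cGens (cWord x) = x := by
  have h := cTable_ok
  simp only [Bool.and_eq_true, List.all_eq_true, beq_iff_eq] at h
  exact h.1.1.2 x hx

theorem one_mem : hOne ∈ dList := by decide +kernel
theorem z_mem : hZ ∈ dList := by decide +kernel
theorem y_mem : hY ∈ dList := by decide +kernel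

theorem dInvols {x : ℕ} : x ∈ dTable.map (fun e => e.1) ↔
    x ∈ dList ∧ hmul x x = hOne ∧ x ≠ hOne := by
  rw [← dTable_eq, List.mem_filter, Bool.and_eq_true, beq_iff_eq, bne_iff_ne]

theorem look_mem {α : Type} {d : α} : ∀ {l : List (ℕ × α)} {x : ℕ}, x ∈ l.map Prod.fst →
    (x, look l d x) ∈ l := by
  intro l
  induction l with
  | nil => intro x hx; simp at hx
  | cons p l ih =>
    intro x hx
    obtain ⟨a, b⟩ := p
    by_cases h : a = x
    · subst h; simp [look]
    · have hb : (a == x) = false := by simp [h]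
      simp only [look, hb, cond_false]
      refine List.mem_cons_of_mem _ (ih ?_)
      simpa [Ne.symm h] using hx

/-- `n` carries `a` to `b` inside the common centraliser. -/
def Carries (ψ : ℕ → G) (n : G) (a b : ℕ) : Prop :=
  a ∈ dList ∧ b ∈ dList ∧ n * ψ a = ψ b * n

theorem Carries.mul (hψ : IsFrame t ψ) {n : G} {a b c d : ℕ} (h1 : Carries ψ n a b)
    (h2 : Carries ψ n c d) : Carries ψ n (hmul a c) (hmul b d) := by
  refine ⟨mul_mem_dList hψ h1.1 h2.1, mul_mem_dList hψ h1.2.1 h2.2.1, ?_⟩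
  rw [hψ.map_mul a c (mem_dList.1 h1.1).1 (mem_dList.1 h2.1).1,
    hψ.map_mul b d (mem_dList.1 h1.2.1).1 (mem_dList.1 h2.2.1).1,
    ← mul_assoc, h1.2.2, mul_assoc, h2.2.2, mul_assoc]

theorem Carries.ev (hψ : IsFrame t ψ) {n : G} {gs ims : List ℕ}
    (h : ∀ i, Carries ψ n (gs.getD i hOne) (ims.getD i hOne)) (w : List ℕ) :
    Carries ψ n (ev gs w) (ev ims w) := by
  suffices H : ∀ w : List ℕ, ∀ p q, Carries ψ n p q →
      Carries ψ n (w.foldl (fun p i => hmul p (gs.getD i hOne)) p)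
        (w.foldl (fun p i => hmul p (ims.getD i hOne)) q) by
    exact H w hOne hOne ⟨one_mem, one_mem, by rw [ψ_one hψ, one_mul, mul_one]⟩
  intro w
  induction w with
  | nil => exact fun p q h => h
  | cons i w ih => exact fun p q hpq => ih _ _ (hpq.mul hψ (h i))

theorem Carries.unique (hψ : IsFrame t ψ) {n : G} {a b c : ℕ} (h1 : Carries ψ n a b)
    (h2 : Carries ψ n a c) : b = c :=
  hψ.inj b c (mem_dList.1 h1.2.1).1 (mem_dList.1 h2.2.1).1
    (mul_right_cancel (h1.2.2.symm.trans h2.2.2))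

theorem Carries.symm {n : G} (hn : n * n = 1) {a b : ℕ} (h : Carries ψ n a b) : Carries ψ n b a := by
  refine ⟨h.2.1, h.1, ?_⟩
  calc n * ψ b = n * (ψ b * n) * n := by rw [mul_assoc, mul_assoc, hn, mul_one]
    _ = n * (n * ψ a) * n := by rw [h.2.2]
    _ = ψ a * n := by rw [← mul_assoc, hn, one_mul]

theorem Carries.isConj {n : G} {a b : ℕ} (h : Carries ψ n a b) : IsConj (ψ a) (ψ b) :=
  isConj_iff.2 ⟨n, by rw [h.2.2, mul_inv_cancel_right]⟩

theorem swap_comm {n : G} (hn : n * n = 1) (hnt : n * t = ψ hY * n) : n * ψ hY = t * n := by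
  calc n * ψ hY = n * (ψ hY * n) * n := by rw [mul_assoc, mul_assoc, hn, mul_one]
    _ = n * (n * t) * n := by rw [hnt]
    _ = t * n := by rw [← mul_assoc, hn, one_mul]

theorem exists_carries (hψ : IsFrame t ψ) {n : G} (hn : n * n = 1) (hnt : n * t = ψ hY * n) {a : ℕ}
    (ha : a ∈ dList) : ∃ b, Carries ψ n a b := by
  have hny := swap_comm hn hnt
  have hni : n⁻¹ = n := inv_eq_of_mul_eq_one_right hn
  have e1 : n * t * n⁻¹ = ψ hY := by rw [hnt]; group
  have e2 : n * ψ hY * n⁻¹ = t := by rw [hny]; group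
  have h1 := comm_of_eq_conj (g := n) (ψ_comm_t hψ (mem_dList.1 ha).1)
  have h2 := comm_of_eq_conj (g := n) (dList_comm hψ ha)
  rw [e1] at h1
  rw [e2] at h2
  obtain ⟨b, hb, hbe⟩ := code_dList hψ h2 h1
  exact ⟨b, ha, hb, by rw [hbe]; group⟩

theorem carries_invol (hψ : IsFrame t ψ) {n : G} {a b : ℕ} (h : Carries ψ n a b)
    (ha : a ∈ dTable.map fun e => e.1) : b ∈ dTable.map fun e => e.1 := by
  obtain ⟨hm, hsq, hne⟩ := dInvols.1 ha
  have ho : Carries ψ n hOne hOne := ⟨one_mem, one_mem, by rw [ψ_one hψ, one_mul, mul_one]⟩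
  have h2 := h.mul hψ h
  rw [hsq] at h2
  refine dInvols.2 ⟨h.2.1, h2.unique hψ ho, fun e => hne ?_⟩
  refine hψ.inj a hOne (mem_dList.1 hm).1 valid_one ?_
  have h3 := h.2.2
  rw [e, ψ_one hψ, one_mul] at h3
  rw [ψ_one hψ]
  exact mul_left_cancel (h3.trans (mul_one n).symm)

theorem isConj_rep (hψ : IsFrame t ψ) {a c r : ℕ} (ha : hvalid a = true) (hc : hvalid c = true)
    (hr : hvalid r = true) (h : hmul a c = hmul c r) : IsConj (ψ r) (ψ a) :=
  isConj_iff.2 ⟨ψ c, by rw [← (mul_eq_iff hψ ha hc hc hr).2 h]; group⟩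

/-- Whether `x` is a conjugate of `t`. -/
noncomputable def fus (t x : G) : Bool := @decide (IsConj t x) (Classical.propDecidable _)

theorem fus_iff {t x : G} : fus t x = true ↔ IsConj t x := @decide_eq_true_iff _ (Classical.propDecidable _)

theorem lab_spec (ht : orderOf t = 2) (hψ : IsFrame t ψ) (hy : IsConj t (ψ hY)) {a : ℕ}
    (ha : a ∈ dTable.map fun e => e.1) :
    lab (fus t (ψ 84)) (fus t (ψ 785)) (fus t (ψ 4257))
      (fus t (ψ 4369)) a = fus t (ψ a) := by
  have hm : a ∈ (dTable.map fun e => (e.1, e.2.1)).map Prod.fst := by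
    rw [List.map_map]; exact ha
  obtain ⟨e, he, hee⟩ := List.mem_map.1 (look_mem (d := 8) hm)
  rw [Prod.mk.injEq] at hee
  have hok := List.all_eq_true.1 dTable_ok e he
  simp only [Bool.and_eq_true] at hok
  obtain ⟨hc, hok⟩ := hok
  unfold lab
  rw [← hee.2]
  obtain ⟨rfl, -⟩ := hee
  have hav := (mem_dList.1 (dInvols.1 ha).1).1
  by_cases h7 : e.2.1 = 7
  · rw [h7] at hok ⊢
    simp only [beq_self_eq_true, cond_true, beq_iff_eq] at hok
    simp only [clsLab]
    exact (fus_iff.2 (by rw [hok, hψ.map_z])).symm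
  · have hb : (e.2.1 == 7) = false := by simp [h7]
    simp only [hb, cond_false, Bool.and_eq_true, decide_eq_true_eq, beq_iff_eq] at hok
    obtain ⟨hi, heq⟩ := hok
    have hcj := isConj_rep hψ hav hc (rep_valid (getD_mem_iReps hi)) heq
    have key : IsConj t (ψ e.1) ↔ IsConj t (ψ (iReps.getD e.2.1 0)) :=
      ⟨fun h => h.trans hcj.symm, fun h => h.trans hcj⟩
    rw [Bool.eq_iff_iff.2 (fus_iff.trans (key.trans fus_iff.symm))]
    generalize e.2.1 = i at hi ⊢
    interval_cases i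
    · rfl
    · exact (fus_iff.2 hy).symm
    · rfl
    · rfl
    · rfl
    · exact (Bool.eq_false_iff.2 (mt fus_iff.1 (not_conj_fifth ht hψ))).symm
    · exact (Bool.eq_false_iff.2 (mt fus_iff.1 (not_conj_sixth ht hψ))).symm

theorem img_carries (hψ : IsFrame t ψ) {n : G} {ims : List ℕ}
    (h : ∀ i, Carries ψ n (cGens.getD i hOne) (ims.getD i hOne)) {x : ℕ} (hx : x ∈ dList) :
    Carries ψ n x (img ims x) := by
  have h1 := Carries.ev hψ h (cWord x)
  rwa [ev_cWord hx] at h1

theorem consist_true (ht : orderOf t = 2) (hψ : IsFrame t ψ) (hy : IsConj t (ψ hY)) {n : G}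
    {lv : List (ℕ × List ℕ)} {gs ims : List ℕ}
    (hlv : ∀ e ∈ lv, ev gs e.2 = e.1 ∧ e.1 ∈ dTable.map fun d => d.1)
    (h : ∀ i, Carries ψ n (gs.getD i hOne) (ims.getD i hOne)) :
    consist (fus t (ψ 84)) (fus t (ψ 785)) (fus t (ψ 4257))
      (fus t (ψ 4369)) lv ims = true := by
  refine List.all_eq_true.2 fun e he => ?_
  obtain ⟨hev, hin⟩ := hlv e he
  have hc := Carries.ev hψ h e.2
  rw [hev] at hc
  have hin2 := carries_invol hψ hc hin
  rw [Bool.and_eq_true, List.elem_eq_mem, decide_eq_true_eq, beq_iff_eq]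
  refine ⟨hin2, ?_⟩
  rw [lab_spec ht hψ hy hin, lab_spec ht hψ hy hin2, Bool.eq_iff_iff, fus_iff, fus_iff]
  exact ⟨fun h => h.trans hc.isConj.symm, fun h => h.trans hc.isConj⟩

theorem ev_take : ∀ e ∈ level1, ev (cGens.take 3) e.2 = e.1 := by decide +kernel
theorem ev_take4 : ∀ e ∈ level2, ev (cGens.take 4) e.2 = e.1 := by decide +kernel
theorem ev_take5 : ∀ e ∈ level3, ev (cGens.take 5) e.2 = e.1 := by decide +kernel
theorem ev_take6 : ∀ e ∈ level4, ev (cGens.take 6) e.2 = e.1 := by decide +kernel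

theorem level_mem {e : ℕ × List ℕ} (h : e ∈ level1 ++ level2 ++ level3 ++ level4) :
    e.1 ∈ dTable.map fun d => d.1 := by
  have h1 := List.all_eq_true.1 levels_ok e h
  simp only [Bool.and_eq_true, List.elem_eq_mem, decide_eq_true_eq] at h1
  exact h1.2

theorem sig_spec (hψ : IsFrame t ψ) {x : ℕ} (hx : x ∈ dList) :
    sig x ∈ dList ∧ ψ hS * ψ x = ψ (sig x) * ψ hS := by
  have h := List.all_eq_true.1 sTable_ok x hx
  simp only [Bool.and_eq_true, List.elem_eq_mem, decide_eq_true_eq, beq_iff_eq] at h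
  exact ⟨h.1, (mul_eq_iff hψ valid_s (mem_dList.1 hx).1 (mem_dList.1 h.1).1 valid_s).2 h.2⟩

theorem rot_spec (hψ : IsFrame t ψ) {n : G} {a b : ℕ} (h : Carries ψ n a b) :
    ψ hS * n * ψ a = ψ (sig b) * (ψ hS * n) := by
  rw [mul_assoc, h.2.2, ← mul_assoc, (sig_spec hψ h.2.1).2, mul_assoc]

theorem cube_facts (hψ : IsFrame t ψ) {n : G} (hn : n * n = 1) {f : ℕ → ℕ}
    (hf : ∀ x ∈ dList, Carries ψ n x (f x)) (hz : f hZ = hY) (hy : f hY = hZ) :
    ∃ q ∈ dList, ψ q = (ψ hS * n) ^ 3 ∧ hmul (sig q) q = hOne ∧ sig (f q) = q ∧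
      ∀ g ∈ dList, hmul q g = hmul (sig (f (sig (f (sig (f g)))))) q := by
  have step : ∀ x ∈ dList, sig (f x) ∈ dList ∧ ψ hS * n * ψ x = ψ (sig (f x)) * (ψ hS * n) :=
    fun x hx => ⟨(sig_spec hψ (hf x hx).2.1).1, rot_spec hψ (hf x hx)⟩
  have three : ∀ x ∈ dList, sig (f (sig (f (sig (f x))))) ∈ dList ∧
      (ψ hS * n) ^ 3 * ψ x = ψ (sig (f (sig (f (sig (f x)))))) * (ψ hS * n) ^ 3 := by
    intro x hx
    obtain ⟨m1, e1⟩ := step x hx
    obtain ⟨m2, e2⟩ := step _ m1
    obtain ⟨m3, e3⟩ := step _ m2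
    refine ⟨m3, ?_⟩
    rw [pow_three, mul_assoc (ψ hS * n), mul_assoc (ψ hS * n), e1, ← mul_assoc (ψ hS * n) (ψ _), e2,
      ← mul_assoc (ψ hS * n), ← mul_assoc (ψ hS * n) (ψ _), e3]
    simp only [mul_assoc]
  have sz : sig (f (sig (f (sig (f hZ))))) = hZ ∧ sig (f (sig (f (sig (f hY))))) = hY := by
    have a1 : sig hY = hZY := by decide +kernel
    have a2 : sig hZY = hY := by decide +kernel
    have a3 : sig hZ = hZ := by decide +kernel
    have hzy : f hZY = hZY := by
      have h1 := (hf hZ z_mem).mul hψ (hf hY y_mem)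
      rw [hz, hy, constants_mul.2.2.2.2, show hmul hY hZ = hZY by decide +kernel] at h1
      exact (hf hZY (by decide +kernel)).unique hψ h1
    refine ⟨?_, ?_⟩
    · rw [hz, a1, hzy, a2, hy, a3]
    · rw [hy, a3, hz, a1, hzy, a2]
  have h1 := (three hZ z_mem).2
  have h2 := (three hY y_mem).2
  rw [sz.1, hψ.map_z] at h1
  rw [sz.2] at h2
  obtain ⟨q, hq, hqe⟩ := code_dList hψ h1 h2
  have hqv := (mem_dList.1 hq).1
  refine ⟨q, hq, hqe, ?_, ?_, fun g hg => ?_⟩
  · obtain ⟨hs, hse⟩ := sig_spec hψ hq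
    refine ψ_eq_mul hψ (mem_dList.1 hs).1 hqv valid_one ?_
    have hss : ψ hS * ψ hS = 1 := by
      rw [ψ_mul_eq hψ valid_s valid_s constants_mul.2.1, ψ_one hψ]
    have e : ψ (sig q) = ψ hS * ψ q * ψ hS := by
      rw [hse, mul_assoc, hss, mul_one]
    rw [ψ_one hψ, e, hqe, pow_three]
    calc ψ hS * (ψ hS * n * (ψ hS * n * (ψ hS * n))) * ψ hS *
          (ψ hS * n * (ψ hS * n * (ψ hS * n)))
        = (ψ hS * ψ hS) * n * ψ hS * n * ψ hS * n * (ψ hS * ψ hS) * n * ψ hS * n * ψ hS * n := by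
          simp only [mul_assoc]
      _ = n * ψ hS * n * ψ hS * (n * n) * ψ hS * n * ψ hS * n := by
          rw [hss, one_mul, mul_one]; simp only [mul_assoc]
      _ = n * ψ hS * n * (ψ hS * ψ hS) * n * ψ hS * n := by
          rw [hn, mul_one]; simp only [mul_assoc]
      _ = n * ψ hS * (n * n) * ψ hS * n := by rw [hss, mul_one]; simp only [mul_assoc]
      _ = n * (ψ hS * ψ hS) * n := by rw [hn, mul_one]; simp only [mul_assoc]
      _ = 1 := by rw [hss, mul_one, hn]
  · obtain ⟨hm, he⟩ := step q hq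
    refine hψ.inj _ _ (mem_dList.1 hm).1 hqv (mul_right_cancel (b := ψ hS * n) ?_)
    rw [← he, hqe, ← pow_succ, ← pow_succ']
  · obtain ⟨hm, he⟩ := three g hg
    refine (mul_eq_iff hψ hqv (mem_dList.1 hg).1 (mem_dList.1 hm).1 hqv).1 ?_
    rw [hqe]
    exact he

/-- A swap involution acting as in Held's group. -/
theorem exists_alpha (ht : orderOf t = 2) (hψ : IsFrame t ψ) (hy : IsConj t (ψ hY)) :
    ∃ n : G, n * n = 1 ∧ n * t = ψ hY * n ∧
      ∀ i, i < 4 → Carries ψ n (hD.getD i 0) (hDimg.getD i 0) := by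
  obtain ⟨n, hn, hnt⟩ := exists_swap_invol ht hψ hy
  have hex : ∀ a ∈ dList, ∃ b, Carries ψ n a b := fun a ha => exists_carries hψ hn hnt ha
  choose! f hf using hex
  have hfz : f hZ = hY := (hf hZ z_mem).unique hψ ⟨z_mem, y_mem, by rw [hψ.map_z, hnt]⟩
  have hfy : f hY = hZ := (hf hY y_mem).unique hψ
    ⟨y_mem, z_mem, by rw [hψ.map_z, swap_comm hn hnt]⟩
  let ims := cGens.map f
  have hget : ∀ i, Carries ψ n (cGens.getD i hOne) (ims.getD i hOne) := by
    intro i
    by_cases hi : i < cGens.length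
    · have hi' : i < ims.length := by simpa [ims] using hi
      rw [List.getD_eq_getElem _ _ hi, List.getD_eq_getElem _ _ hi']
      simp only [ims, List.getElem_map]
      exact hf _ (cGens_mem (List.getElem_mem hi)).1
    · rw [List.getD_eq_default _ _ (by omega), List.getD_eq_default _ _ (by simp [ims]; omega)]
      exact ⟨one_mem, one_mem, by rw [ψ_one hψ, one_mul, mul_one]⟩
  have hims : ims = [hY, hZ, f 50453, f 17681, f 34097, f 35091] := by
    show [f hZ, f hY, f 50453, f 17681, f 34097, f 35091] = _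
    rw [hfz, hfy]
  have htake : ∀ k i, Carries ψ n ((cGens.take k).getD i hOne) ((ims.take k).getD i hOne) := by
    intro k i
    by_cases hik : i < k
    · simpa [List.getD_eq_getElem?_getD, List.getElem?_take, hik] using hget i
    · have ho : Carries ψ n hOne hOne := ⟨one_mem, one_mem, by rw [ψ_one hψ, one_mul, mul_one]⟩
      rw [List.getD_eq_default _ _ (by rw [List.length_take]; omega),
        List.getD_eq_default _ _ (by rw [List.length_take]; omega)]
      exact ho
  have hin : ∀ c ∈ cGens, f c ∈ dTable.map fun d => d.1 := fun c hc =>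
    carries_invol hψ (hf c (cGens_mem hc).1) (dInvols.2 (cGens_mem hc))
  have hS := search_ok (fus t (ψ 84)) (fus t (ψ 785))
    (fus t (ψ 4257)) (fus t (ψ 4369))
  unfold searchOK at hS
  simp only [List.all_eq_true, Bool.or_eq_true, Bool.not_eq_true'] at hS
  have c1 := consist_true ht hψ hy (lv := level1) (fun e he => ⟨ev_take e he, level_mem (by simp [he])⟩)
    (htake 3)
  have c2 := consist_true ht hψ hy (lv := level2) (fun e he => ⟨ev_take4 e he, level_mem (by simp [he])⟩)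
    (htake 4)
  have c3 := consist_true ht hψ hy (lv := level3) (fun e he => ⟨ev_take5 e he, level_mem (by simp [he])⟩)
    (htake 5)
  have c4 := consist_true ht hψ hy (lv := level4) (fun e he => ⟨ev_take6 e he, level_mem (by simp [he])⟩)
    (htake 6)
  rw [hims] at c1 c2 c3 c4
  simp only [List.take] at c1 c2 c3 c4
  have hl := ((((hS (f 50453) (hin _ (by decide +kernel))).resolve_left (by simp [c1])
    (f 17681) (hin _ (by decide +kernel))).resolve_left (by simp [c2])
    (f 34097) (hin _ (by decide +kernel))).resolve_left (by simp [c3])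
    (f 35091) (hin _ (by decide +kernel))).resolve_left (by simp [c4])
  rw [← hims] at hl
  simp only [leafOK, Bool.or_eq_true, Bool.not_eq_true'] at hl
  have himg : ∀ x ∈ dList, Carries ψ n x (img ims x) := fun x hx => img_carries hψ hget hx
  have hrec : (List.range 6).all (fun i => img ims (ims.getD i hOne) == cGens.getD i hOne) = true := by
    refine List.all_eq_true.2 fun i _ => beq_iff_eq.2 ?_
    exact (himg _ (hget i).2.1).unique hψ ((hget i).symm hn)
  have heq : ∀ x ∈ dList, img ims x = f x := fun x hx => (himg x hx).unique hψ (hf x hx)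
  obtain ⟨q, hq, -, hq1, hq2, hq3⟩ := cube_facts hψ hn himg
    (by rw [heq _ z_mem, hfz]) (by rw [heq _ y_mem, hfy])
  have hhD : ∀ x ∈ hD, x ∈ dList := by decide +kernel
  have hcube : dList.any (fun q => cubeOK ims q) = true := by
    refine List.any_eq_true.2 ⟨q, hq, ?_⟩
    simp only [cubeOK, rot, Bool.and_eq_true, List.all_eq_true, beq_iff_eq]
    exact ⟨⟨hq1, hq2⟩, fun g hg => hq3 g (hhD g hg)⟩
  simp only [hrec, hcube, Bool.true_eq_false, false_or] at hl
  obtain ⟨d, hd, hdok⟩ := List.any_eq_true.1 hl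
  simp only [adjOK, Bool.and_eq_true, List.all_eq_true, List.mem_range, beq_iff_eq] at hdok
  obtain ⟨hd1, hd2⟩ := hdok
  have hdv := (mem_dList.1 hd).1
  have hdd := himg d hd
  refine ⟨n * ψ d, ?_, ?_, fun i hi => ?_⟩
  · have e := ψ_mul_eq hψ (mem_dList.1 hdd.2.1).1 hdv hd1
    calc n * ψ d * (n * ψ d) = ψ (img ims d) * n * (n * ψ d) := by rw [hdd.2.2]
      _ = ψ (img ims d) * (n * n) * ψ d := by simp only [mul_assoc]
      _ = 1 := by rw [hn, mul_one, e, ψ_one hψ]
  · rw [mul_assoc, ψ_comm_t hψ hdv, ← mul_assoc, hnt, mul_assoc]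
  · have hmem : hD.getD i 0 ∈ dList ∧ hDimg.getD i 0 ∈ dList := by
      have h0 : ∀ i < 4, hD.getD i 0 ∈ dList ∧ hDimg.getD i 0 ∈ dList := by decide +kernel
      exact h0 i hi
    refine ⟨hmem.1, hmem.2, ?_⟩
    have hc := himg _ hmem.2
    have e := (mul_eq_iff hψ (mem_dList.1 hc.2.1).1 hdv hdv (mem_dList.1 hmem.1).1).2 (hd2 i hi)
    calc n * ψ d * ψ (hD.getD i 0) = n * (ψ (img ims (hDimg.getD i 0)) * ψ d) := by
          rw [e]; simp only [mul_assoc]
      _ = n * (ψ (img ims (hDimg.getD i 0)) * n) * (n * ψ d) := by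
          rw [mul_assoc (a := n) (b := ψ (img ims (hDimg.getD i 0)) * n), mul_assoc (ψ (img ims _)),
            ← mul_assoc n n (ψ d), hn, one_mul]
      _ = n * (n * ψ (hDimg.getD i 0)) * (n * ψ d) := by rw [hc.2.2]
      _ = _ := by rw [← mul_assoc n n, hn, one_mul]

end CfsgLib.InvChar.HeRec.Swap
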