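import Cfsg.Agent.Lib.InvChar.HeRec.Swap.Checks
import Mathlib.Tactic

/-!
# Elementary facts about codes and frames used for the swap involution
-/

set_option autoImplicit false
set_option maxRecDepth 100000

namespace CfsgLib.InvChar.HeRec.Swap

theorem and_seven (x : ℕ) : x &&& 7 = x % 8 := Nat.and_two_pow_sub_one_eq_mod x 3

theorem and_one (x : ℕ) : x &&& 1 = x % 2 := Nat.and_two_pow_sub_one_eq_mod x 1

theorem and_511 (x : ℕ) : x &&& 511 = x % 512 := Nat.and_two_pow_sub_one_eq_mod x 9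

theorem shift_eq (x k : ℕ) : x >>> k = x / 2 ^ k := Nat.shiftRight_eq_div_pow x k

theorem bit_mul_lt (R B : ℕ) : (R &&& 1) * (B &&& 7) < 8 := by
  rw [and_one, and_seven]
  have h1 : R % 2 < 2 := Nat.mod_lt _ (by norm_num)
  have h2 : B % 8 < 8 := Nat.mod_lt _ (by norm_num)
  rcases Nat.lt_succ_iff.1 h1 |>.eq_or_lt with h | h
  · rw [h]; omega
  · have : R % 2 = 0 := by omega
    rw [this]; omega

theorem rowMul_lt (R B : ℕ) : rowMul R B < 8 :=
  Nat.xor_lt_two_pow (n := 3)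
    (Nat.xor_lt_two_pow (n := 3) (bit_mul_lt _ _) (bit_mul_lt _ _)) (bit_mul_lt _ _)

theorem parThree_le (x : ℕ) : parThree x ≤ 1 := by
  unfold parThree; rw [and_one]; omega

theorem colMul_lt (A v : ℕ) : colMul A v < 8 := by
  have h1 := parThree_le (A &&& v)
  have h2 := parThree_le ((A >>> 3) &&& v)
  have h3 := parThree_le ((A >>> 6) &&& v)
  unfold colMul; omega

theorem amul_lt (A B : ℕ) : amul A B < 512 := by
  have h1 := rowMul_lt (A &&& 7) B
  have h2 := rowMul_lt ((A >>> 3) &&& 7) B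
  have h3 := rowMul_lt ((A >>> 6) &&& 7) B
  unfold amul; omega

theorem hmul_form (x y : ℕ) : ∃ a b c, a < 8 ∧ b < 8 ∧
    (x < 65536 → y < 65536 → c < 2) ∧
    hmul x y = amul (x % 512) (y % 512) + 512 * a + 4096 * b + 32768 * c := by
  refine ⟨colMul (x &&& 511) ((y >>> 9) &&& 7) ^^^ ((x >>> 9) &&& 7),
    rowMul ((x >>> 12) &&& 7) (y &&& 511) ^^^ ((y >>> 12) &&& 7),
    (x >>> 15) ^^^ (y >>> 15) ^^^ parThree (((x >>> 12) &&& 7) &&& ((y >>> 9) &&& 7)),
    Nat.xor_lt_two_pow (n := 3) (colMul_lt _ _) ?_,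
    Nat.xor_lt_two_pow (n := 3) (rowMul_lt _ _) ?_, ?_, ?_⟩
  · exact (and_seven (x >>> 9)).trans_lt (Nat.mod_lt _ (by norm_num))
  · exact (and_seven (y >>> 12)).trans_lt (Nat.mod_lt _ (by norm_num))
  · intro hx hy
    refine Nat.xor_lt_two_pow (n := 1) (Nat.xor_lt_two_pow (n := 1) ?_ ?_)
      (Nat.lt_succ_of_le (parThree_le _))
    · rw [shift_eq]; omega
    · rw [shift_eq]; omega
  · rw [← and_511 x, ← and_511 y]; rfl

theorem hmul_mod (x y : ℕ) : hmul x y % 512 = amul (x % 512) (y % 512) := by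
  obtain ⟨a, b, c, -, -, -, h⟩ := hmul_form x y
  have := amul_lt (x % 512) (y % 512)
  omega

theorem hvalid_split (x : ℕ) : hvalid x = (decide (x < 65536) && hvalid (x % 512)) := by
  have h0 : decide (x % 512 < 65536) = true := decide_eq_true (by omega)
  have e0 : (x % 512) % 8 = x % 8 := by omega
  have e1 : x % 512 / 2 ^ 3 % 8 = x / 2 ^ 3 % 8 := by omega
  have e2 : x % 512 / 2 ^ 6 % 8 = x / 2 ^ 6 % 8 := by omega
  simp only [hvalid, and_seven, shift_eq, h0, e0, e1, e2, Bool.true_and, Bool.and_assoc]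

theorem mem_aScan {P : ℕ → Bool} {A : ℕ} (hA : A < 512) (hv : hvalid A = true) (hP : P A = true) :
    A ∈ aScan P := by
  simp [aScan, List.mem_filter, hA, hv, hP]

theorem mem_hScan {P : ℕ → Bool} {x : ℕ} (hx : hvalid x = true) (hP : P (x % 512) = true) :
    x ∈ hScan P := by
  have h := hx
  rw [hvalid_split, Bool.and_eq_true, decide_eq_true_eq] at h
  refine List.mem_flatMap.2 ⟨x % 512, mem_aScan (Nat.mod_lt _ (by norm_num)) h.2 hP, ?_⟩
  exact List.mem_map.2 ⟨x / 512, List.mem_range.2 (by omega), by omega⟩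

theorem hvalid_hmul {x y : ℕ} (hx : hvalid x = true) (hy : hvalid y = true) :
    hvalid (hmul x y) = true := by
  have h1 := hx
  have h2 := hy
  rw [hvalid_split, Bool.and_eq_true, decide_eq_true_eq] at h1 h2
  have h3 := amul_closed
  rw [List.all_eq_true] at h3
  have h4 := h3 (x % 512) (mem_aScan (Nat.mod_lt _ (by norm_num)) h1.2 rfl)
  rw [List.all_eq_true] at h4
  have h5 := h4 (y % 512) (mem_aScan (Nat.mod_lt _ (by norm_num)) h2.2 rfl)
  obtain ⟨a, b, c, ha, hb, hc, h⟩ := hmul_form x y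
  have hc' := hc h1.1 h2.1
  have := amul_lt (x % 512) (y % 512)
  rw [hvalid_split, hmul_mod, h5, Bool.and_true, decide_eq_true_eq]
  omega

theorem mem_valid {P : ℕ → Bool} {x : ℕ} (h : x ∈ hScan P) : hvalid x = true := by
  obtain ⟨A, hA, hx⟩ := List.mem_flatMap.1 h
  obtain ⟨k, hk, rfl⟩ := List.mem_map.1 hx
  rw [List.mem_range] at hk
  simp only [aScan, List.mem_filter, List.mem_range, Bool.and_eq_true] at hA
  have e : (A + 512 * k) % 512 = A := by omega
  rw [hvalid_split, e, hA.2.1, Bool.and_true, decide_eq_true_eq]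
  omega

theorem mem_dList {x : ℕ} : x ∈ dList ↔ hvalid x = true ∧ hmul x hY = hmul hY x := by
  rw [← dList_eq, List.mem_filter, beq_iff_eq]
  refine ⟨fun h => ⟨mem_valid h.1, h.2⟩, fun h => ⟨mem_hScan h.1 ?_, h.2⟩⟩
  rw [beq_iff_eq, ← hmul_mod, ← hmul_mod, h.2]

theorem mem_invols {x : ℕ} (hv : hvalid x = true) (hsq : hmul x x = hOne) (h1 : x ≠ hOne)
    (hz : x ≠ hZ) : x ∈ invols := by
  refine List.mem_filter.2 ⟨mem_hScan hv ?_, by simp [hsq, h1, hz]⟩
  rw [beq_iff_eq, ← hmul_mod, hsq]; rfl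

theorem mem_zRootsAt {x w : ℕ} : x ∈ zRootsAt w ↔
    hvalid x = true ∧ hmul x x = hZ ∧ hmul x w = hmul w x := by
  simp only [zRootsAt, zRoots, List.mem_filter, beq_iff_eq]
  refine ⟨fun h => ⟨mem_valid h.1.1, h.1.2, h.2⟩, fun h => ⟨⟨mem_hScan h.1 ?_, h.2.1⟩, h.2.2⟩⟩
  rw [beq_iff_eq, ← hmul_mod, h.2.1]; rfl

theorem mem_rRoots {x : ℕ} : x ∈ rRoots ↔ hvalid x = true ∧ hmul x x = 5393 := by
  simp only [rRoots, List.mem_filter, beq_iff_eq]
  refine ⟨fun h => ⟨mem_valid h.1, h.2⟩, fun h => ⟨mem_hScan h.1 ?_, h.2⟩⟩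
  rw [beq_iff_eq, ← hmul_mod, h.2]

theorem valid_one : hvalid hOne = true := by decide
theorem valid_z : hvalid hZ = true := by decide
theorem valid_y : hvalid hY = true := by decide
theorem valid_zy : hvalid hZY = true := by decide
theorem valid_s : hvalid hS = true := by decide

section Frame

variable {G : Type*} [Group G] {t : G} {ψ : ℕ → G}

theorem ψ_one (hψ : IsFrame t ψ) : ψ hOne = 1 := by
  have h := hψ.map_mul hOne hOne valid_one valid_one
  rw [constants_mul.1] at h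
  exact mul_eq_right.mp h.symm

theorem ψ_comm_t (hψ : IsFrame t ψ) {x : ℕ} (hx : hvalid x = true) : ψ x * t = t * ψ x := by
  have h := (hψ.mem_iff (ψ x)).2 ⟨x, hx, rfl⟩
  rw [Subgroup.mem_centralizer_iff] at h
  exact (h t rfl).symm

theorem code_of_comm (hψ : IsFrame t ψ) {g : G} (h : g * t = t * g) :
    ∃ x, hvalid x = true ∧ ψ x = g :=
  (hψ.mem_iff g).1 (Subgroup.mem_centralizer_singleton_iff.2 h)

theorem mul_eq_iff (hψ : IsFrame t ψ) {a b c d : ℕ} (ha : hvalid a = true) (hb : hvalid b = true)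
    (hc : hvalid c = true) (hd : hvalid d = true) :
    ψ a * ψ b = ψ c * ψ d ↔ hmul a b = hmul c d := by
  rw [← hψ.map_mul a b ha hb, ← hψ.map_mul c d hc hd]
  exact ⟨hψ.inj _ _ (hvalid_hmul ha hb) (hvalid_hmul hc hd), fun h => by rw [h]⟩

theorem ψ_mul_eq (hψ : IsFrame t ψ) {a b c : ℕ} (ha : hvalid a = true) (hb : hvalid b = true)
    (h : hmul a b = c) : ψ a * ψ b = ψ c := by
  rw [← hψ.map_mul a b ha hb, h]

theorem ψ_eq_mul (hψ : IsFrame t ψ) {a b c : ℕ} (ha : hvalid a = true) (hb : hvalid b = true)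
    (hc : hvalid c = true) (h : ψ a * ψ b = ψ c) : hmul a b = c :=
  hψ.inj _ _ (hvalid_hmul ha hb) hc (by rw [hψ.map_mul a b ha hb, h])

theorem code_dList (hψ : IsFrame t ψ) {g : G} (h : g * t = t * g) (hy : g * ψ hY = ψ hY * g) :
    ∃ x ∈ dList, ψ x = g := by
  obtain ⟨x, hx, rfl⟩ := code_of_comm hψ h
  exact ⟨x, mem_dList.2 ⟨hx, (mul_eq_iff hψ hx valid_y valid_y hx).1 hy⟩, rfl⟩

theorem dList_comm (hψ : IsFrame t ψ) {x : ℕ} (hx : x ∈ dList) : ψ x * ψ hY = ψ hY * ψ x :=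
  (mul_eq_iff hψ (mem_dList.1 hx).1 valid_y valid_y (mem_dList.1 hx).1).2 (mem_dList.1 hx).2

theorem mul_mem_dList (hψ : IsFrame t ψ) {a b : ℕ} (ha : a ∈ dList) (hb : b ∈ dList) :
    hmul a b ∈ dList := by
  have va := (mem_dList.1 ha).1
  have vb := (mem_dList.1 hb).1
  refine mem_dList.2 ⟨hvalid_hmul va vb, ?_⟩
  refine (mul_eq_iff hψ (hvalid_hmul va vb) valid_y valid_y (hvalid_hmul va vb)).1 ?_
  rw [hψ.map_mul a b va vb, mul_assoc, dList_comm hψ hb, ← mul_assoc, dList_comm hψ ha, mul_assoc]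

end Frame

end CfsgLib.InvChar.HeRec.Swap
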