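import Cfsg.Agent.Lib.InvChar.HeRec.Swap.Data

/-!
# Kernel-checked facts about the codes needed for the swap involution
-/

set_option autoImplicit false
set_option maxRecDepth 100000
set_option maxHeartbeats 4000000

namespace CfsgLib.InvChar.HeRec.Swap

/-- The product of the matrix parts. -/
def amul (A B : ℕ) : ℕ :=
  rowMul (A &&& 7) B + 8 * rowMul ((A >>> 3) &&& 7) B + 64 * rowMul ((A >>> 6) &&& 7) B

/-- The invertible matrix parts satisfying `P`. -/
def aScan (P : ℕ → Bool) : List ℕ := (List.range 512).filter fun A => hvalid A && P A

/-- The codes whose matrix part satisfies `P`. -/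
def hScan (P : ℕ → Bool) : List ℕ :=
  (aScan P).flatMap fun A => (List.range 128).map fun k => A + 512 * k

/-- The product along a word in the letters `gs`. -/
def ev (gs : List ℕ) (w : List ℕ) : ℕ := w.foldl (fun p i => hmul p (gs.getD i hOne)) hOne

/-- Lookup in an association list. -/
def look {α : Type} (l : List (ℕ × α)) (d : α) (x : ℕ) : α :=
  match l with
  | [] => d
  | (a, b) :: l => cond (a == x) b (look l d x)

/-- The involutions other than `hZ`. -/
def invols : List ℕ :=
  (hScan fun A => amul A A == 273).filter fun x => hmul x x == hOne && x != hOne && x != hZ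

/-- The square roots of `hZ`. -/
def zRoots : List ℕ := (hScan fun A => amul A A == 273).filter fun x => hmul x x == hZ

/-- The square roots of `hZ` commuting with `w`. -/
def zRootsAt (w : ℕ) : List ℕ := zRoots.filter fun x => hmul x w == hmul w x

/-- The square roots of the representative of the 42-class. -/
def rRoots : List ℕ := (hScan fun A => amul A A == 273).filter fun x => hmul x x == 5393

/-- Conjugation by `hS`. -/
def sig (x : ℕ) : ℕ := look sTable hOne x

/-- The action of the swap of Held's group. -/
def alpha (x : ℕ) : ℕ := look (aTable.map fun e => (e.1, e.2.2)) hOne x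

/-- The word of an element in the search generators. -/
def cWord (x : ℕ) : List ℕ := look cTable [] x

theorem amul_closed :
    ((aScan fun _ => true).all fun A => (aScan fun _ => true).all fun B =>
      hvalid (amul A B)) = true := by
  decide +kernel

theorem constants_valid : ([hOne, hZ, hY, hZY, hS] ++ hD ++ hDimg ++ hTri ++ iReps).all hvalid = true := by
  decide +kernel

theorem constants_mul : hmul hOne hOne = hOne ∧ hmul hS hS = hOne ∧ hmul hY hY = hOne ∧
    hmul hS hY = hmul hZY hS ∧ hmul hZ hY = hZY := by
  decide +kernel

theorem dList_eq : ((hScan fun A => amul A (hY % 512) == amul (hY % 512) A).filter fun x =>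
    hmul x hY == hmul hY x) = dList := by
  decide +kernel

theorem invols_eq : invols = iTable.map (fun e => e.1) := by
  decide +kernel

theorem iTable_ok : (iTable.all fun e =>
    hvalid e.2.2 && decide (e.2.1 < 7) && (hmul e.1 e.2.2 == hmul e.2.2 (iReps.getD e.2.1 0))) = true := by
  decide +kernel

theorem no_root : (((hScan fun A => amul A A == 281).all fun x => hmul x x != 5401) &&
    (281 == 5401 % 512)) = true := by
  decide +kernel

theorem rep_roots : (iReps.all fun w => !(zRootsAt w).isEmpty) = true := by
  decide +kernel

theorem rep_pairs : (iReps.all fun w =>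
    ((zRootsAt w).any fun a => (zRootsAt w).any fun b => hmul a b == hmul hZ (hmul b a)) ||
    ((zRootsAt w).all fun a => (zRootsAt w).all fun b => hmul a b == hmul b a)) = true := by
  decide +kernel

theorem roots_comm : ((rRoots.any fun a => rRoots.any fun b => hmul a b != hmul b a) &&
    (rRoots.all fun a => rRoots.all fun b => hmul a b != hmul 5393 (hmul b a))) = true := by
  decide +kernel

theorem rep_move : (iReps.all fun r =>
    decide (9 ≤ (zRootsAt r).length) ||
    zMove.any (fun c => hvalid c && hmul c r == hmul (hmul hZ r) c)) = true := by
  decide +kernel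

theorem yRoots_small : decide ((dList.filter fun x => hmul x x == hY).length ≤ 8) = true := by
  decide +kernel

theorem zRoots_nodup : (iReps.all fun r => decide (zRootsAt r).Nodup) = true := by
  decide +kernel

theorem dTable_eq : (dList.filter fun x => hmul x x == hOne && x != hOne) = dTable.map (fun e => e.1) := by
  decide +kernel

theorem dTable_ok : (dTable.all fun e => hvalid e.2.2 &&
    (cond (e.2.1 == 7) (e.1 == hZ)
      (decide (e.2.1 < 7) && (hmul e.1 e.2.2 == hmul e.2.2 (iReps.getD e.2.1 0))))) = true := by
  decide +kernel

theorem sTable_ok : (dList.all fun x => dList.elem (sig x) && hmul hS x == hmul (sig x) hS) = true := by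
  decide +kernel

theorem aTable_ok : (aTable.map (fun e => e.1) == dList &&
    aTable.all (fun e => ev hD e.2.1 == e.1 && ev hDimg e.2.1 == e.2.2 && alpha e.1 == e.2.2 &&
      dList.elem e.2.2)) = true := by
  decide +kernel

theorem cTable_ok : ((cTable.map (fun e => e.1) == dList) &&
    dList.all (fun x => ev cGens (cWord x) == x) && cGens.all (fun x => dList.elem x) &&
    cGens.all (fun x => hmul x x == hOne && x != hOne)) = true := by
  decide +kernel

end CfsgLib.InvChar.HeRec.Swap
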