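import Cfsg.Agent.Lib.InvChar.HeRec.Swap.Checks

/-!
# The automorphisms of the common centraliser compatible with a swap involution

`bs` are the unknown fusion labels of the classes 0, 2, 3, 4; classes 1 and 7 are fused to the central
involution and classes 5, 6 are not.
-/

set_option autoImplicit false
set_option maxRecDepth 100000
set_option maxHeartbeats 4000000

namespace CfsgLib.InvChar.HeRec.Swap

/-- The label of a class. -/
def clsLab (b0 b2 b3 b4 : Bool) : ℕ → Bool
  | 0 => b0
  | 1 => true
  | 2 => b2
  | 3 => b3
  | 4 => b4
  | 7 => true
  | _ => false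

/-- The label of an involution of `dList`. -/
def lab (b0 b2 b3 b4 : Bool) (x : ℕ) : Bool :=
  clsLab b0 b2 b3 b4 (look (dTable.map fun e => (e.1, e.2.1)) 8 x)

/-- The images keep involutions and labels. -/
def consist (b0 b2 b3 b4 : Bool) (lv : List (ℕ × List ℕ)) (ims : List ℕ) : Bool :=
  lv.all fun e =>
    (dTable.map fun d => d.1).elem (ev ims e.2) &&
      lab b0 b2 b3 b4 (ev ims e.2) == lab b0 b2 b3 b4 e.1

/-- The image of an element. -/
def img (ims : List ℕ) (x : ℕ) : ℕ := ev ims (cWord x)

/-- Conjugation by `ψ hS * n`. -/
def rot (ims : List ℕ) (x : ℕ) : ℕ := sig (img ims x)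

/-- A possible cube of `ψ hS * n`. -/
def cubeOK (ims : List ℕ) (q : ℕ) : Bool :=
  hmul (sig q) q == hOne && rot ims q == q &&
    hD.all fun g => hmul q g == hmul (rot ims (rot ims (rot ims g))) q

/-- `n * ψ d` is an involution acting as in Held's group. -/
def adjOK (ims : List ℕ) (d : ℕ) : Bool :=
  hmul (img ims d) d == hOne &&
    (List.range 4).all fun i =>
      hmul (img ims (hDimg.getD i 0)) d == hmul d (hD.getD i 0)

/-- Either the images cannot come from a swap involution, or an adjustment exists. -/
def leafOK (ims : List ℕ) : Bool :=
  !((List.range 6).all fun i => img ims (ims.getD i hOne) == cGens.getD i hOne) ||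
    !(dList.any fun q => cubeOK ims q) || dList.any fun d => adjOK ims d

/-- The search. -/
def searchOK (b0 b2 b3 b4 : Bool) : Bool :=
  let cand := dTable.map fun d => d.1
  cand.all fun y1 => !consist b0 b2 b3 b4 level1 [hY, hZ, y1] ||
    cand.all fun y2 => !consist b0 b2 b3 b4 level2 [hY, hZ, y1, y2] ||
      cand.all fun y3 => !consist b0 b2 b3 b4 level3 [hY, hZ, y1, y2, y3] ||
        cand.all fun y4 => !consist b0 b2 b3 b4 level4 [hY, hZ, y1, y2, y3, y4] ||
          leafOK [hY, hZ, y1, y2, y3, y4]

theorem search_ff : (searchOK false false false false && searchOK false false false true &&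
    searchOK false false true false && searchOK false false true true) = true := by
  decide +kernel

theorem search_ft : (searchOK false true false false && searchOK false true false true &&
    searchOK false true true false && searchOK false true true true) = true := by
  decide +kernel

theorem search_tf : (searchOK true false false false && searchOK true false false true &&
    searchOK true false true false && searchOK true false true true) = true := by
  decide +kernel

theorem search_tt : (searchOK true true false false && searchOK true true false true &&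
    searchOK true true true false && searchOK true true true true) = true := by
  decide +kernel

theorem search_ok (b0 b2 b3 b4 : Bool) : searchOK b0 b2 b3 b4 = true := by
  have h1 := search_ff; have h2 := search_ft; have h3 := search_tf; have h4 := search_tt
  simp only [Bool.and_eq_true] at h1 h2 h3 h4
  obtain ⟨⟨⟨a1, a2⟩, a3⟩, a4⟩ := h1
  obtain ⟨⟨⟨c1, c2⟩, c3⟩, c4⟩ := h2
  obtain ⟨⟨⟨d1, d2⟩, d3⟩, d4⟩ := h3
  obtain ⟨⟨⟨e1, e2⟩, e3⟩, e4⟩ := h4
  cases b0 <;> cases b2 <;> cases b3 <;> cases b4 <;> with_reducible assumption

/-- A cube of `ψ hS * n'` is removed by a central adjustment. -/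
theorem cube_fix : (dList.all fun q =>
    !(hmul (sig q) q == hOne && sig (alpha q) == q &&
      hD.all fun g => hmul q g == hmul (sig (alpha (sig (alpha (sig (alpha g)))))) q) ||
    dList.any fun z => hmul (alpha z) z == hOne && dList.all (fun x => hmul z x == hmul x z) &&
      hmul (hmul (hmul (sig (alpha z)) (sig (alpha (sig (alpha z)))))
        (sig (alpha (sig (alpha (sig (alpha z))))))) q == hOne) = true := by
  decide +kernel

/-- The data of the triangle chains. -/
theorem tri_ok : ((List.range 3).all fun i =>
    let g := hTri.getD i 0
    let ch := triChain.getD i []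
    hmul g hZ == hmul hZ g &&
      (ch.map fun e => e.1).elem hZ && (ch.map fun e => e.1).elem hY &&
      (ch.all fun e => dList.elem e.1 && dList.elem e.2.1 && dList.elem e.2.2 &&
        hmul g (alpha e.1) == hmul e.2.1 g && hmul g (alpha e.2.1) == hmul e.2.2 g &&
        hmul g (alpha e.2.2) == hmul e.1 g) &&
      dList.all fun x =>
        !((ch.all fun e => hmul x e.1 == hmul e.1 x) && hmul g (alpha x) == hmul x g) ||
          (hTriOpts.getD i []).elem x) = true := by
  decide +kernel

end CfsgLib.InvChar.HeRec.Swap
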